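import Groth.Agent.Calg4.SmoothReduced
import Mathlib.AlgebraicGeometry.Morphisms.Smooth
import Mathlib.AlgebraicGeometry.Morphisms.Proper
import Mathlib.FieldTheory.Separable
import Mathlib.LinearAlgebra.TensorProduct.Basis

/-!
# Global functions of a proper smooth scheme over a field are separable algebraic
-/

universe u

open CategoryTheory AlgebraicGeometry TensorProduct Polynomial TopologicalSpace

namespace Groth.SmoothConst

section Alg

variable {k : Type u} [Field k] {Γ : Type u} [CommRing Γ] [Algebra k Γ]

/-- A base change is reduced if its images in enough reduced base changes are. -/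
lemma isReduced_tensor_of_jointly_injective {ι : Type*} {B : ι → Type u} [∀ i, CommRing (B i)]
    [∀ i, Algebra k (B i)] (r : ∀ i, Γ →ₐ[k] B i) (hr : ∀ x : Γ, (∀ i, r i x = 0) → x = 0)
    (L : Type u) [Field L] [Algebra k L] (hB : ∀ i, _root_.IsReduced (L ⊗[k] B i)) :
    _root_.IsReduced (L ⊗[k] Γ) := by
  refine ⟨fun z hz => ?_⟩
  have h0 : ∀ i, LinearMap.lTensor L (r i).toLinearMap z = 0 := fun i => by
    have h : Algebra.TensorProduct.map (AlgHom.id k L) (r i) z = 0 :=
      @IsReduced.eq_zero _ _ _ (hB i) _ (hz.map _)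
    exact h
  let ℬ := Module.Free.chooseBasis k L
  apply (TensorProduct.equivFinsuppOfBasisLeft ℬ).injective
  rw [map_zero]
  refine Finsupp.ext fun b => hr _ fun i => ?_
  have nat : ∀ w : L ⊗[k] Γ, r i (TensorProduct.equivFinsuppOfBasisLeft ℬ w b) =
      TensorProduct.equivFinsuppOfBasisLeft ℬ (LinearMap.lTensor L (r i).toLinearMap w) b := by
    intro w
    induction w using TensorProduct.induction_on with
    | zero => simp
    | tmul l x => simp
    | add x y hx hy => simp [hx, hy]
  rw [nat, h0 i]
  simp

/-- An algebraic element of an algebra with reduced base change to an algebraically closed field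
has separable minimal polynomial. -/
lemma separable_minpoly (L : Type u) [Field L] [Algebra k L] [IsAlgClosed L]
    [_root_.IsReduced (L ⊗[k] Γ)] {s : Γ} (hs : IsIntegral k s) : (minpoly k s).Separable := by
  rw [← Polynomial.separable_map (algebraMap k L)]
  set n := (minpoly k s).natDegree
  set P := (minpoly k s).map (algebraMap k L)
  have hP0 : P ≠ 0 := ((minpoly.monic hs).map _).ne_zero
  rw [PerfectField.separable_iff_squarefree, squarefree_iff_irreducible_sq_not_dvd_of_ne_zero hP0]
  intro x hx hdvd
  obtain ⟨c, hc⟩ := hdvd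
  let S : L ⊗[k] Γ := (1 : L) ⊗ₜ s
  have hPS : aeval S P = 0 := by
    rw [aeval_map_algebraMap]
    show aeval (Algebra.TensorProduct.includeRight (R := k) (A := L) s) (minpoly k s) = 0
    rw [aeval_algHom_apply, minpoly.aeval, map_zero]
  have hq : aeval S (x * c) = 0 := by
    refine IsReduced.eq_zero _ ⟨2, ?_⟩
    rw [← map_pow, show (x * c) ^ 2 = P * c by rw [hc]; ring, map_mul, hPS, zero_mul]
  have hc0 : c ≠ 0 := fun h => hP0 (by rw [hc, h, mul_zero])
  have hdeg : (x * c).natDegree < n := by
    have h1 : P.natDegree = n := natDegree_map _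
    rw [hc, mul_assoc, natDegree_mul hx.ne_zero (mul_ne_zero hx.ne_zero hc0)] at h1
    have := hx.natDegree_pos
    omega
  let f : (Fin n → k) →ₗ[k] Γ := Fintype.linearCombination k fun i : Fin n => s ^ (i : ℕ)
  have hf : LinearMap.ker f = ⊥ := LinearMap.ker_eq_bot_of_injective
    (linearIndependent_iff_injective_fintypeLinearCombination.mp (linearIndependent_pow s))
  obtain ⟨g, hg⟩ := f.exists_leftInverse_of_injective hf
  refine (mul_ne_zero hx.ne_zero hc0) (Polynomial.ext fun j => ?_)
  by_cases hj : j < n
  swap
  · rw [coeff_eq_zero_of_natDegree_lt (by omega), coeff_zero]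
  let φ : Γ →ₗ[k] k := (LinearMap.proj ⟨j, hj⟩).comp g
  have hφ : ∀ i : Fin n, φ (s ^ (i : ℕ)) = if i = ⟨j, hj⟩ then 1 else 0 := fun i => by
    have : g (s ^ (i : ℕ)) = Pi.single i 1 := by
      have h := LinearMap.congr_fun hg (Pi.single i 1)
      simpa [f] using h
    simp [φ, this, Pi.single_apply, eq_comm]
  have := congrArg (fun z => TensorProduct.rid k L (LinearMap.lTensor L φ z)) hq
  rw [aeval_eq_sum_range' hdeg, ← Fin.sum_univ_eq_sum_range] at this
  simpa [S, Algebra.smul_def, Algebra.TensorProduct.tmul_pow, hφ] using this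

end Alg

variable {k : Type u} [Field k] {X : Scheme.{u}} (f : X ⟶ Spec (CommRingCat.of k))

/-- The structure map of the functions on an open. -/
noncomputable def strHom (U : X.Opens) : CommRingCat.of k ⟶ Γ(X, U) :=
  (Scheme.ΓSpecIso (CommRingCat.of k)).inv ≫ f.appLE ⊤ U le_top

lemma strHom_res {U V : X.Opens} (h : V ≤ U) :
    strHom f U ≫ X.presheaf.map (homOfLE h).op = strHom f V := by
  rw [strHom, strHom, Category.assoc]
  exact congrArg _ (f.appLE_map _ _)

lemma smooth_strHom [Smooth f] {U : X.Opens} (hU : IsAffineOpen U) :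
    (strHom f U).hom.Smooth :=
  RingHom.Smooth.stableUnderComposition _ _
    (RingHom.Smooth.of_bijective (ConcreteCategory.bijective_of_isIso (Scheme.ΓSpecIso _).inv))
    (f.smooth_appLE (isAffineOpen_top _) hU le_top)

/-- A global function on a proper smooth scheme over a field is killed by a separable polynomial. -/
theorem exists_separable_eval_eq_zero [UniversallyClosed f] [Smooth f] (s : Γ(X, ⊤)) :
    ∃ p : k[X], p.Separable ∧ p.eval₂ (strHom f ⊤).hom s = 0 := by
  let := (strHom f ⊤).hom.toAlgebra
  have hs : IsIntegral k s := by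
    have h : (strHom f ⊤).hom.IsIntegral := by
      rw [show strHom f ⊤ = (Scheme.ΓSpecIso (CommRingCat.of k)).inv ≫ f.appTop from
        congrArg _ f.appLE_eq_app]
      exact RingHom.IsIntegral.trans _ _
        (RingHom.isIntegral_of_surjective _
          (ConcreteCategory.bijective_of_isIso (Scheme.ΓSpecIso _).inv).surjective)
        (isIntegral_appTop_of_universallyClosed f)
    exact h s
  let B : X.affineOpens → Type u := fun U => Γ(X, U.1)
  let : ∀ U : X.affineOpens, Algebra k (B U) := fun U => (strHom f U.1).hom.toAlgebra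
  let r : ∀ U : X.affineOpens, Γ(X, ⊤) →ₐ[k] B U := fun U =>
    { (X.presheaf.map (homOfLE (le_top : U.1 ≤ ⊤)).op).hom with
      commutes' := fun c => ConcreteCategory.congr_hom (strHom_res f (le_top : U.1 ≤ ⊤)) c }
  have hr : ∀ x, (∀ U, r U x = 0) → x = 0 := fun x h =>
    X.sheaf.eq_of_locally_eq' (fun U : X.affineOpens => U.1) ⊤ (fun U => homOfLE le_top)
      (iSup_affineOpens_eq_top X).ge _ _ fun U => (h U).trans (map_zero _).symm
  have hB : ∀ U, _root_.IsReduced (AlgebraicClosure k ⊗[k] B U) := fun U => by
    have : Algebra.Smooth k (B U) := smooth_strHom f U.2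
    exact Calg4.isReduced_of_smooth_field (AlgebraicClosure k) _
  have := isReduced_tensor_of_jointly_injective r hr (AlgebraicClosure k) hB
  exact ⟨minpoly k s, separable_minpoly (AlgebraicClosure k) hs, minpoly.aeval k s⟩

end Groth.SmoothConst
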